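import Cfsg.Agent.Mrg.Omega.OM.SwapV.Main
import Cfsg.Agent.Mrg.Omega.OM.Lev.Low.LowMain
import Cfsg.Agent.Mrg.Omega.OM.SwapK.OffW
import Cfsg.Agent.Mrg.Omega.OM.SwapV.Q.Main

-- merged: Cfsg.Agent.Mrg.Omega.OM.SwapV.Base
section

/-!
# The `q`-free half of THEOREM SW / YQ over an abstract `V`: pairs and offender families

* `CrB S K B V ZJ` : `LB S K B ZJ`, `B` weakly closed, `V ≤ B`, `N_G(B) ≤ N_G(V)`, `V ≤ O₂(C_G(Ω₁Z(S)))`, the no-FF field
  and the fixed point property of quiet minimal parabolics. No blocks, no `q`.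
* `CrB.exists_pairH`, `exists_pair`, `exists_maxC` : pairs `(T, F)` (with `|C_ZJ(T)|` maximal); `comm_of_pair`; `V_le_o2`;
* `crB_lev`, `crB_neg` : the levels, and stage `-1`;
* `FmX`, `exists_fam_lev`, `exists_fam_neg` : the families of offenders.
-/

set_option autoImplicit false
set_option linter.unusedSectionVars false

namespace Cfsg.Agent.Omega.OM.SwapV

open Subgroup Cfsg Cfsg.Agent.ZN.ChoiceBase Cfsg.Agent.ZN.ChoiceSit
open Cfsg.Agent.ZN (jj zj bau zc zl o2)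
open Cfsg.Agent.MinSimple.MinParabolic (IsMinPar)
open Cfsg.Agent.MinSimple.VModule (oddGen oddGen_le)
open Cfsg.Agent.Omega.NO3S.Level (lev Lev lev_isLev BO nxt)
open Cfsg.Agent.Omega.OM.LevD (LB)
open Cfsg.Agent.Omega.OM.WeakCl (WC)
open Cfsg.Agent.Omega.OM.Lev.Uni (FrL Best)
open Cfsg.Agent.Omega.OM.Swap.Fam (Fm BF fm_AA fm_best)
open Cfsg.Agent.Omega.OM.Swap (char2_cent)
open Cfsg.Agent.Omega.OM.SwapL (BL ZL lb wc norm_lev zc_elab)

universe u

variable {G : Type u} [Group G] [Finite G]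

/-- The `q`-free ground frame. -/
structure CrB (S : Sylow 2 G) (K B V ZJ : Subgroup G) : Prop where
  lb : LB S K B ZJ
  wc : WC B
  zcS : zc (S : Subgroup G) ≤ ZJ
  VB : V ≤ B
  nV : ∀ g ∈ normalizer (B : Set G), cj g V = V
  char2 : IsCharacteristicTwoType G
  low : V ≤ o2 (centralizer (zc (S : Subgroup G) : Set G))
  noff : ∀ T : Subgroup G, IsPGroup 2 T → B ≤ T → ∀ f : G, cj f V ≤ T → V ≤ cj f T →
    ∀ x ∈ V, ∀ y ∈ V, x * (f * y * f⁻¹) = f * y * f⁻¹ * x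
  fixPt : ∀ T Y : Subgroup G, Quiet K B T Y → ZJ ⊓ zc (o2 Y) ≤ centralizer (oddGen Y : Set G)

namespace CrB

variable {S : Sylow 2 G} {K B V ZJ : Subgroup G}

theorem norm_le (h : CrB S K B V ZJ) : normalizer (B : Set G) ≤ normalizer (V : Set G) := fun g hg => by
  rw [mem_normalizer_iff_cj]
  exact h.nV g hg

/-- **(F1)** a conjugate of `B` inside `M` is a conjugate by an element of `M`. -/
theorem mem_of_cj_B_le (h : CrB S K B V ZJ) {M : Subgroup G} (hSM : (S : Subgroup G) ≤ M)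
    (hN : normalizer (B : Set G) ≤ M) {g : G} (h0 : cj g B ≤ M) : g ∈ M := by
  have hS : Syl (S : Subgroup G) M := ⟨hSM, S.isPGroup', fun Q _ hQ hle => S.is_maximal' hQ hle⟩
  have h2 : IsPGroup 2 (cj g B) := isPGroup_cj g h.lb.Bp
  obtain ⟨T, hT, hle⟩ := exists_syl h2 h0
  obtain ⟨m, hm, rfl⟩ := syl_conj hS hT
  have h3 : cj (m⁻¹ * g) B ≤ (S : Subgroup G) := by
    have := cj_mono m⁻¹ hle
    rwa [cj_inv_cj, cj_cj] at this
  have h4 := h.wc _ S.isPGroup' h.lb.BS _ h3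
  have h5 : m⁻¹ * g ∈ M := hN (mem_normalizer_iff_cj.2 h4)
  have h6 := mul_mem hm h5
  rwa [mul_inv_cancel_left] at h6

/-- a 2-group over `B` normalises `V`. -/
theorem two_norm (h : CrB S K B V ZJ) {T : Subgroup G} (hT : IsPGroup 2 T) (hB : B ≤ T) :
    T ≤ normalizer (V : Set G) :=
  (h.lb.two_le hT hB).trans h.norm_le

/-- `Ω₁Z(T) ≤ Z_J`-part: a 2-group over `B` lies in `S^g`, `g ∈ N_G(B)`, and `Ω₁Z(S)^g ≤ Ω₁Z(T)`. -/
theorem exists_cj (h : CrB S K B V ZJ) {T : Subgroup G} (hT : IsPGroup 2 T) (hB : B ≤ T) :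
    ∃ g ∈ normalizer (B : Set G), T ≤ cj g (S : Subgroup G) ∧ cj g (zc (S : Subgroup G)) ≤ zc T := by
  obtain ⟨g, hg, hle⟩ := exists_cj_S h.wc h.lb.BS hT hB
  refine ⟨g, hg, hle, ?_⟩
  intro z hz
  have h6 := cj_mono g h.zcS hz
  rw [cj_eq_of_mem_normalizer (h.lb.norm_B_le hg)] at h6
  have h4 : z ∈ T := hB (h.lb.ZB h6)
  rw [← NO3S.Level.zc_cj] at hz
  obtain ⟨h5, h6, h7⟩ := mem_zc.1 hz
  exact mem_zc.2 ⟨h4, h6, fun y hy => h7 y (hle hy)⟩

/-- `V ≤ O₂(Y)` if `Y` centralises `Ω₁(Z(T))`, `B ≤ T ≤ Y`. -/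
theorem V_le_o2 (h : CrB S K B V ZJ) {T Y : Subgroup G} (hT : IsPGroup 2 T)
    (hB : B ≤ T) (hTY : T ≤ Y) (hY : Y ≤ centralizer (zc T : Set G)) : V ≤ o2 Y := by
  obtain ⟨g, hgN, -, h3⟩ := h.exists_cj hT hB
  have h4 : Y ≤ centralizer (cj g (zc (S : Subgroup G)) : Set G) := hY.trans (centralizer_le h3)
  have h5 : V ≤ o2 (centralizer (cj g (zc (S : Subgroup G)) : Set G)) := by
    have h6 := cj_mono g h.low
    rw [h.nV g hgN, ← pCore_cj, cj_centralizer] at h6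
    exact h6
  have h6 : V ≤ o2 (centralizer (cj g (zc (S : Subgroup G)) : Set G)) ⊓ Y :=
    le_inf h5 ((h.VB.trans hB).trans hTY)
  refine h6.trans (le_o2 ((isPGroup_o2 _).to_le inf_le_left) inf_le_right ?_)
  intro y hy
  rw [mem_normalizer_iff_cj, cj_inf, cj_eq_of_mem_normalizer (le_normalizer_o2 _ (h4 hy)),
    cj_eq_of_mem_normalizer (le_normalizer hy)]

/-- `LevB.genM` with the weak fixed point property. -/
theorem genM (h : CrB S K B V ZJ) {M T H : Subgroup G} (hD : centralizer (ZJ : Set G) ≤ M)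
    (hN : normalizer (B : Set G) ≤ M) (hT : Syl T H) (hBT : B ≤ T)
    (hc : H ⊓ centralizer (o2 H : Set G) ≤ o2 H)
    (hblk : ∀ Y : Subgroup G, IsMinPar T Y → Y ≤ H → ¬ K ≤ o2 Y → ¬ Y ≤ centralizer (zc T : Set G) → Y ≤ M) :
    H ≤ (H ⊓ M) ⊔ ⨆ Y : {Y : Subgroup G // IsMinPar T Y ∧ Y ≤ H ∧ ¬ K ≤ o2 Y ∧
      Y ≤ centralizer (zc T : Set G) ∧ ¬ o2 Y ≤ B}, (Y : Subgroup G) := by
  have hB := h.lb
  have hZM : normalizer (ZJ : Set G) ≤ M := hB.norm_zj_le.trans (sup_le hD hN)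
  have hTN : normalizer (T : Set G) ≤ M := (hB.nrm T hT.2.1 (hB.KB.trans hBT)).trans hZM
  have hTM : T ≤ M := le_normalizer.trans hTN
  refine MinSimple.MinParabolic.le_of_forall hT.1 ?_ fun Y hY hYH => ?_
  · exact le_sup_of_le_left (inf_le_inf_left _ hTN)
  have hcase : Y ≤ M → Y ≤ (H ⊓ M) ⊔ ⨆ Y : {Y : Subgroup G // IsMinPar T Y ∧ Y ≤ H ∧ ¬ K ≤ o2 Y ∧
      Y ≤ centralizer (zc T : Set G) ∧ ¬ o2 Y ≤ B}, (Y : Subgroup G) :=
    fun h => le_sup_of_le_left (le_inf hYH h)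
  have hTY : Syl T Y := ⟨hY.le, hT.2.1, fun Q hQ h2 hTQ => hT.2.2 Q (hQ.trans hYH) h2 hTQ⟩
  by_cases h1 : K ≤ o2 Y
  · exact hcase ((le_normalizer_o2 Y).trans ((hB.nrm _ (isPGroup_o2 Y) h1).trans hZM))
  by_cases h2 : Y ≤ centralizer (zc T : Set G)
  · by_cases h3 : o2 Y ≤ B
    · apply hcase
      have h4 : o2 H ≤ o2 Y := by
        refine le_o2 (isPGroup_o2 H) ((o2_le_syl hT).trans hY.le) (hYH.trans (le_normalizer_o2 H))
      have hcY : Y ⊓ centralizer (o2 Y : Set G) ≤ o2 Y := by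
        rintro x ⟨hx, hxc⟩
        exact h4 (hc ⟨hYH hx, centralizer_le (by exact_mod_cast h4) hxc⟩)
      have h5 : ZJ ≤ zc (o2 Y) := by
        intro z hz
        have hzT : z ∈ T := hBT (hB.ZB hz)
        have hcz : ∀ y ∈ o2 Y, y * z = z * y := fun y hy =>
          (mem_centralizer_iff.1 (hB.Bc (h3 hy)) z hz).symm
        exact mem_zc.2 ⟨hcY ⟨hY.le hzT, mem_centralizer_iff.2 hcz⟩, hB.sq z hz, hcz⟩
      have h6 : ZJ ≤ centralizer (oddGen Y : Set G) :=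
        (le_inf le_rfl h5).trans (h.fixPt T Y ⟨hTY, hBT, hY, hcY, h1, h2⟩)
      have h7 : MinSimple.VModule.oddGen Y ≤ M := (le_centralizer_iff.1 h6).trans hD
      have h8 : MinSimple.VModule.oddGen Y ⊔ T = Y := Dich.oddGen_sup_syl hTY
      rw [← h8]
      exact sup_le h7 hTM
    · exact le_sup_of_le_right (le_iSup (fun Y : {Y : Subgroup G // IsMinPar T Y ∧ Y ≤ H ∧ ¬ K ≤ o2 Y ∧
        Y ≤ centralizer (zc T : Set G) ∧ ¬ o2 Y ≤ B} => (Y : Subgroup G))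
        ⟨Y, hY, hYH, h1, h2, h3⟩)
  · exact hcase (hblk Y hY hYH h1 h2)

/-- **Existence of pairs**, blocks inside `H` only. -/
theorem exists_pairH (h : CrB S K B V ZJ) {M H : Subgroup G} (hBM : BMH K B M H)
    (hD : centralizer (ZJ : Set G) ≤ M) (hN : normalizer (B : Set G) ≤ M)
    (hB : B ≤ H) (hc : H ⊓ centralizer (o2 H : Set G) ≤ o2 H) (hM : ¬ H ≤ M) :
    ∃ T F : Subgroup G, Pair K B V ZJ M T F ∧ F ≤ H := by
  have : Fact (Nat.Prime 2) := ⟨Nat.prime_two⟩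
  obtain ⟨T₀, hT₀, hBT₀⟩ := exists_syl h.lb.Bp hB
  have hsylY : ∀ Y : Subgroup G, IsMinPar T₀ Y → Y ≤ H → Syl T₀ Y := fun Y hY hYH =>
    ⟨hY.le, hT₀.2.1, fun Q hQ h2 hTQ => hT₀.2.2 Q (hQ.trans hYH) h2 hTQ⟩
  have hcY' : ∀ Y : Subgroup G, IsMinPar T₀ Y → Y ≤ H → Y ⊓ centralizer (o2 Y : Set G) ≤ o2 Y := by
    intro Y hY hYH
    have h4 : o2 H ≤ o2 Y :=
      le_o2 (isPGroup_o2 H) ((o2_le_syl hT₀).trans hY.le) (hYH.trans (le_normalizer_o2 H))
    rintro x ⟨hx, hxc⟩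
    exact h4 (hc ⟨hYH hx, centralizer_le (by exact_mod_cast h4) hxc⟩)
  have hg := genM h hD hN hT₀ hBT₀ hc
    fun Y hY hYH => hBM T₀ Y (hsylY Y hY hYH) hBT₀ hY hYH (hcY' Y hY hYH)
  -- the minimal parabolic `Y`
  obtain ⟨Y, ⟨hYm, hYH, hYK, hYc, -⟩, hYM⟩ : ∃ Y : Subgroup G, (IsMinPar T₀ Y ∧ Y ≤ H ∧
      ¬ K ≤ o2 Y ∧ Y ≤ centralizer (zc T₀ : Set G) ∧ ¬ o2 Y ≤ B) ∧ ¬ Y ≤ M := by
    by_contra hcon
    push Not at hcon
    exact hM (hg.trans (sup_le inf_le_right (iSup_le fun Y => hcon Y.1 Y.2)))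
  have hTM : T₀ ≤ M := (h.lb.two_le hT₀.2.1 hBT₀).trans hN
  have hTY : Syl T₀ Y := hsylY Y hYm hYH
  have hcY := hcY' Y hYm hYH
  have hq : Quiet K B T₀ Y := ⟨hTY, hBT₀, hYm, hcY, hYK, hYc⟩
  have hVY : V ≤ o2 Y := V_le_o2 h hT₀.2.1 hBT₀ hYm.le hYc
  -- `Y₁ = O²(Y) O₂(Y) B`
  set Y₁ : Subgroup G := oddGen Y ⊔ (o2 Y ⊔ B) with hY₁
  have hY₁Y : Y₁ ≤ Y := sup_le (oddGen_le Y) (sup_le (o2_le Y) (hBT₀.trans hYm.le))
  have hOB : IsPGroup 2 (o2 Y ⊔ B : Subgroup G) :=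
    hT₀.2.1.to_le (sup_le (o2_le_syl hTY) hBT₀)
  obtain ⟨T, hT, hOT⟩ := exists_syl hOB (le_sup_right : o2 Y ⊔ B ≤ Y₁)
  have hY₁M : ¬ Y₁ ≤ M := by
    intro hle
    apply hYM
    rw [← Dich.oddGen_sup_syl hTY]
    exact sup_le (le_sup_left.trans hle) hTM
  obtain ⟨F, hF⟩ := (Set.toFinite {R : Subgroup G | T ≤ R ∧ R ≤ Y₁ ∧ ¬ R ≤ M}).exists_minimal
    ⟨Y₁, hT.1, le_rfl, hY₁M⟩
  obtain ⟨hTF, hFY₁, hFM⟩ := hF.prop
  have hFY : F ≤ Y := hFY₁.trans hY₁Y
  have hsyl : Syl T F := ⟨hTF, hT.2.1, fun Q hQ h2 hle => hT.2.2 Q (hQ.trans hFY₁) h2 hle⟩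
  have hBT : B ≤ T := le_sup_right.trans hOT
  have hOF : o2 Y ≤ o2 F :=
    le_o2 (isPGroup_o2 Y) ((le_sup_left.trans hOT).trans hTF) (hFY.trans (le_normalizer_o2 Y))
  refine ⟨T, F, ⟨hsyl, hBT, hFM, fun R hTR hRF => ?_, hVY.trans hOF, ?_, T₀, Y, hq, hYM, hFY, hOF⟩,
    hFY.trans hYH⟩
  · by_contra hRM
    exact hRF.not_ge (hF.le_of_le ⟨hTR, hRF.le.trans hFY₁, hRM⟩ hRF.le)
  · rintro z ⟨hz, hzc⟩
    have hzB : z ∈ B := h.lb.ZB hz
    have hzO : ∀ y ∈ o2 Y, y * z = z * y := fun y hy => mem_centralizer_iff.1 hzc y (hOF hy)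
    have hz1 : z ∈ zc (o2 Y) := by
      refine mem_zc.2 ⟨hcY ⟨hYm.le (hBT₀ hzB), mem_centralizer_iff.2 hzO⟩, h.lb.sq z hz, hzO⟩
    have hz2 : z ∈ centralizer (oddGen Y : Set G) := h.fixPt T₀ Y hq ⟨hz, hz1⟩
    have hle : Y₁ ≤ centralizer ({z} : Set G) := by
      refine sup_le (fun y hy => ?_) (sup_le (fun y hy => ?_) fun y hy => ?_) <;>
        rw [mem_centralizer_singleton_iff]
      · exact mem_centralizer_iff.1 hz2 y hy
      · exact hzO y hy
      · exact (mem_centralizer_iff.1 (h.lb.Bc hy) z hz).symm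
    rw [mem_centralizer_iff]
    intro y hy
    exact mem_centralizer_singleton_iff.1 (hle (hFY₁ hy))

/-- **Existence of pairs.** -/
theorem exists_pair (h : CrB S K B V ZJ) {M H : Subgroup G} (hBM : BM K B M)
    (hD : centralizer (ZJ : Set G) ≤ M) (hN : normalizer (B : Set G) ≤ M)
    (hB : B ≤ H) (hc : H ⊓ centralizer (o2 H : Set G) ≤ o2 H) (hM : ¬ H ≤ M) :
    ∃ T F : Subgroup G, Pair K B V ZJ M T F ∧ F ≤ H :=
  exists_pairH h (fun T Y hT hB' hY _ => hBM T Y hT hB' hY) hD hN hB hc hM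

/-- **A pair with `|C_ZJ(T)|` maximal**: `C_G(X) ≤ M` for every `X ≤ Z_J`, `X > C_ZJ(T)`; everything inside `C_G(c)`. -/
theorem exists_maxC (h : CrB S K B V ZJ) {M H : Subgroup G} {c : G}
    (hcT : ∀ T : Subgroup G, IsPGroup 2 T → B ≤ T → ∀ t ∈ T, t * c = c * t) (hcJ : c ∈ ZJ)
    (hBM : BMH K B M (centralizer ({c} : Set G)))
    (hD : centralizer (ZJ : Set G) ≤ M) (hN : normalizer (B : Set G) ≤ M)
    (hB : B ≤ H) (hH : H ≤ centralizer ({c} : Set G))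
    (hch : H ⊓ centralizer (o2 H : Set G) ≤ o2 H) (hM : ¬ H ≤ M) :
    ∃ T F : Subgroup G, Pair K B V ZJ M T F ∧ F ≤ centralizer ({c} : Set G) ∧
      ∀ X : Subgroup G, X ≤ ZJ → ZJ ⊓ centralizer (T : Set G) < X → centralizer (X : Set G) ≤ M := by
  classical
  have hS2 : IsPGroup 2 ZJ := h.lb.Bp.to_le h.lb.ZB
  have hBMH : ∀ H' : Subgroup G, H' ≤ centralizer ({c} : Set G) → BMH K B M H' := fun H' hH' T Y hT hB' hY hYH =>
    hBM T Y hT hB' hY (hYH.trans hH')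
  let s : Set ℕ := {m | ∃ T F : Subgroup G, Pair K B V ZJ M T F ∧ F ≤ centralizer ({c} : Set G) ∧
    Nat.card (ZJ ⊓ centralizer (T : Set G) : Subgroup G) = m}
  have hs1 : s.Nonempty := by
    obtain ⟨T, F, hp, hFH⟩ := exists_pairH h (hBMH H hH) hD hN hB hch hM
    exact ⟨_, T, F, hp, hFH.trans hH, rfl⟩
  have hs2 : s.Finite := by
    refine (Set.finite_Iic (Nat.card ZJ)).subset ?_
    rintro m ⟨T, F, -, -, rfl⟩
    rw [Set.mem_Iic]
    exact Nat.card_mono (Set.toFinite _) (inf_le_left : ZJ ⊓ centralizer (T : Set G) ≤ _)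
  obtain ⟨m, hm⟩ := hs2.exists_maximal hs1
  obtain ⟨T, F, hp, hFc, hcard⟩ := hm.prop
  refine ⟨T, F, hp, hFc, fun X hXJ hlt => ?_⟩
  by_contra hcon
  have hX1 : X ≠ ⊥ := by
    rintro rfl
    exact not_lt_bot hlt
  have hcX : c ∈ X := hlt.le (mem_inf.2 ⟨hcJ, mem_centralizer_iff.2 fun t ht =>
    hcT T hp.syl.2.1 hp.BT t ht⟩)
  have hXc : centralizer (X : Set G) ≤ centralizer ({c} : Set G) :=
    centralizer_le (Set.singleton_subset_iff.2 hcX)
  have hBX : B ≤ centralizer (X : Set G) :=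
    h.lb.Bc.trans (centralizer_le (by exact_mod_cast hXJ))
  obtain ⟨T', F', hp', hle⟩ := exists_pairH h (hBMH _ hXc) hD hN hBX
    (char2_cent h.char2 (hS2.to_le hXJ) hX1) hcon
  have hsub : X ≤ ZJ ⊓ centralizer (T' : Set G) :=
    le_inf hXJ (le_centralizer_iff.1 (hp'.syl.1.trans hle))
  have h2 : m < Nat.card (ZJ ⊓ centralizer (T' : Set G) : Subgroup G) := by
    rw [← hcard]
    refine lt_of_lt_of_le (lt_of_not_ge fun hge => hlt.ne (Subgroup.eq_of_le_of_card_ge hlt.le hge))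
      (Nat.card_mono (Set.toFinite _) (hsub : (X : Set G) ⊆ _))
  exact absurd (hm.le_of_ge ⟨T', F', hp', hle.trans hXc, rfl⟩ h2.le) (not_le.2 h2)

/-- `K ≰ O₂(F)` for a pair. -/
theorem pair_nK (h : CrB S K B V ZJ) {M T F : Subgroup G} (hp : Pair K B V ZJ M T F)
    (hZM : normalizer (ZJ : Set G) ≤ M) : ¬ K ≤ o2 F := fun hle =>
  hp.nM ((le_normalizer_o2 F).trans ((h.lb.nrm _ (isPGroup_o2 F) hle).trans hZM))

/-- `V` commutes with its conjugates under `F` -/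
theorem comm_of_pair (h : CrB S K B V ZJ) {M T F : Subgroup G} (hp : Pair K B V ZJ M T F) {f : G} (hf : f ∈ F)
    {x y : G} (hx : x ∈ V) (hy : y ∈ V) : x * (f * y * f⁻¹) = f * y * f⁻¹ * x := by
  have hO : o2 F ≤ T := o2_le_syl hp.syl
  have hcO : cj f (o2 F) = o2 F := cj_eq_of_mem_normalizer (le_normalizer_o2 F hf)
  refine h.noff T hp.syl.2.1 hp.BT f ?_ ?_ x hx y hy
  · have := cj_mono f hp.VO
    rw [hcO] at this
    exact this.trans hO
  · have := cj_mono f hO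
    rw [hcO] at this
    exact hp.VO.trans this

/-- `Λ = ⟨V^F⟩` is elementary abelian. -/
theorem elab_Lam (h : CrB S K B V ZJ) (hel : IsElementaryAbelian 2 V) {M T F : Subgroup G}
    (hp : Pair K B V ZJ M T F) : IsElementaryAbelian 2 (NoFF.Basic.V V F) := by
  have h1 := Swap.elab_iSup (W := fun f : F => cj (f : G) V) (fun f f' x hx y hy => ?_)
    fun f x hx => ?_
  · exact Swap.elab_of h1.1 h1.2
  · rw [mem_cj] at hx hy
    have h2 := comm_of_pair h hp (mul_mem (inv_mem f.2) f'.2) hx hy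
    have e1 : (f : G)⁻¹ * f' * ((f' : G)⁻¹ * y * f') * ((f : G)⁻¹ * f')⁻¹ = (f : G)⁻¹ * y * f := by group
    rw [e1] at h2
    have h3 := congrArg (fun t => (f : G) * t * (f : G)⁻¹) h2
    have e2 : (f : G) * ((f : G)⁻¹ * x * f * ((f : G)⁻¹ * y * f)) * (f : G)⁻¹ = x * y := by group
    have e3 : (f : G) * ((f : G)⁻¹ * y * f * ((f : G)⁻¹ * x * f)) * (f : G)⁻¹ = y * x := by group
    exact e2.symm.trans (h3.trans e3)
  · rw [mem_cj] at hx
    have h2 := SQ1.Bau.elem_sq hel _ hx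
    rw [pow_two] at h2
    have e : x * x = f * ((f : G)⁻¹ * x * f * ((f : G)⁻¹ * x * f)) * (f : G)⁻¹ := by group
    rw [e, h2]; group

/-- `F` is a minimal parabolic over `T` -/
theorem pair_min (h : CrB S K B V ZJ) {M T F : Subgroup G} (hp : Pair K B V ZJ M T F)
    (hZM : normalizer (ZJ : Set G) ≤ M) : IsMinPar T F := by
  refine ⟨hp.syl.1, fun hle => ?_, F ⊓ M, lt_of_le_of_ne inf_le_left fun e => hp.nM (inf_eq_left.1 e),
    fun R hTR hRF => le_inf hRF.le (hp.min R hTR hRF)⟩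
  apply pair_nK h hp hZM
  exact (h.lb.KB.trans hp.BT).trans (le_o2 hp.syl.2.1 hp.syl.1 hle)

end CrB

/-- `Cr` gives `CrB` -/
theorem Cr.crB {ι : Type} {S : Sylow 2 G} {K B V ZJ : Subgroup G} {L W Z C : ι → Subgroup G}
    (h : Cr S K B V ZJ L W Z C) : CrB S K B V ZJ :=
  ⟨h.lb, h.wc, h.zcS, h.VB, fun g hg => (h.norm g hg).1, h.char2, h.low, h.noff, h.fixPt⟩

/-! ### The families of offenders -/

/-- The families of offenders of a pair (`q`-free): the members `≤ T` lie in `B` and have the property `Pr`. -/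
structure FmX (B V T F : Subgroup G) (Pr : Subgroup G → Prop) (𝓐 : Set (Subgroup G)) : Prop where
  fam : ∀ Λ : Subgroup G, IsElementaryAbelian 2 Λ → Λ ≤ F → F ≤ normalizer (Λ : Set G) →
    Λ ≤ NoFF.Basic.V V F → Fm F Λ 𝓐
  nJ : ∃ X ∈ 𝓐, X ≤ T ∧ ¬ X ≤ o2 F
  XB : ∀ X ∈ 𝓐, X ≤ T → X ≤ B
  act : ∀ X ∈ 𝓐, X ≤ T → Pr X

/-- the family of a pair, stage `n`: members `≤ T` centralise `V` or are best offenders on `Ω₁Z(lev S n)` -/
theorem exists_fam_lev {S : Sylow 2 G} {V : Subgroup G} {n : ℕ} (hVX : V ≤ zc (lev (S : Subgroup G) n))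
    (hZV : ZL (S : Subgroup G) n ≤ V) {M T F : Subgroup G}
    (hp : Pair (lev (S : Subgroup G) (n + 1)) (BL (S : Subgroup G) n) V (ZL (S : Subgroup G) n) M T F)
    (hD : centralizer (ZL (S : Subgroup G) n : Set G) ≤ M)
    (hZM : normalizer (ZL (S : Subgroup G) n : Set G) ≤ M) (hTM : T ≤ M) :
    ∃ 𝓐 : Set (Subgroup G), FmX (BL (S : Subgroup G) n) V T F
      (fun X => (∀ a ∈ X, ∀ v ∈ V, a * v = v * a) ∨ Best (zc (lev (S : Subgroup G) n)) X) 𝓐 := by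
  classical
  have hT2 := hp.syl.2.1
  have hcV : ∀ a ∈ lev (S : Subgroup G) n, ∀ v ∈ V, a * v = v * a := fun a ha v hv =>
    (mem_zc.1 (hVX hv)).2.2 a ha
  have hVs : ∀ s, s ≤ n → V ≤ zc (lev (S : Subgroup G) s) := fun s hs =>
    hVX.trans ((lev_isLev (S : Subgroup G) s).zc_le_zc (NO3S.Level.lev_mono _ hs)
      (NO3S.Level.lev_le (S : Subgroup G) n))
  have hKT : lev (S : Subgroup G) (n + 1) ≤ T := (lb S n).KB.trans hp.BT
  have h0T : jj (S : Subgroup G) ≤ T :=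
    (NO3S.Level.lev_mono (S : Subgroup G) (Nat.zero_le (n + 1))).trans hKT
  have hnK : ¬ lev (S : Subgroup G) (n + 1) ≤ o2 F := fun hle =>
    hp.nM ((le_normalizer_o2 F).trans (((lb S n).nrm _ (isPGroup_o2 F) hle).trans hZM))
  have hmp : IsMinPar T F := by
    refine ⟨hp.syl.1, fun hle => ?_, F ⊓ M, lt_of_le_of_ne inf_le_left fun e => hp.nM (inf_eq_left.1 e),
      fun R hTR hRF => le_inf hRF.le (hp.min R hTR hRF)⟩
    apply hnK
    exact ((lb S n).KB.trans hp.BT).trans (le_o2 hp.syl.2.1 hp.syl.1 hle)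
  have hstg : ¬ jj (S : Subgroup G) ≤ o2 F ∨ ∃ s, s ≤ n ∧ lev (S : Subgroup G) s ≤ o2 F ∧
      ¬ lev (S : Subgroup G) (s + 1) ≤ o2 F := by
    by_cases h0 : jj (S : Subgroup G) ≤ o2 F
    · right
      have hex : ∃ m, ¬ lev (S : Subgroup G) m ≤ o2 F := ⟨n + 1, hnK⟩
      obtain ⟨m, hm, hmin⟩ : ∃ m, ¬ lev (S : Subgroup G) m ≤ o2 F ∧ ∀ k, k < m → lev (S : Subgroup G) k ≤ o2 F :=
        ⟨Nat.find hex, Nat.find_spec hex, fun k hk => by
          by_contra hcon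
          exact Nat.find_min hex hk hcon⟩
      have hmn : m ≤ n + 1 := by
        by_contra hcon
        exact hnK (hmin (n + 1) (by omega))
      obtain ⟨s, rfl⟩ : ∃ s, m = s + 1 := by
        refine ⟨m - 1, ?_⟩
        have : m ≠ 0 := by
          rintro rfl
          exact hm h0
        omega
      exact ⟨s, by omega, hmin s (by omega), hm⟩
    · exact Or.inl h0
  rcases hstg with hJ | ⟨s, hs, hlow, hnle⟩
  · -- stage `-1`
    have hjT : jj T = jj (S : Subgroup G) := MinSimple.EmptyTI.jj_eq S hT2 h0T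
    have hX2 : ∀ X ∈ AA F, X ≤ T → X ≤ lev (S : Subgroup G) n := fun X hX hXT => by
      have h1 : X ≤ lev (S : Subgroup G) 0 := by
        have := le_jj (Swap.AA_of_le hX hXT hp.syl.1)
        rwa [hjT] at this
      exact h1.trans (NO3S.Level.lev_mono _ (Nat.zero_le n))
    refine ⟨AA F, fun Λ hΛ hΛF hn _ => fm_AA hΛ hΛF hn, ?_, fun X hX hXT =>
      ((hX2 X hX hXT).trans (NO3S.Level.lev_mono _ (Nat.le_succ n))).trans (lb S n).KB, fun X hX hXT =>
      Or.inl fun a ha v hv => hcV a (hX2 X hX hXT ha) v hv⟩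
    by_contra hcon
    push Not at hcon
    apply hJ
    rw [← hjT, Cfsg.Agent.ZN.ChoiceBase.jj_eq]
    exact sSup_le fun X hX => hcon X (Swap.AA_of_syl hp.syl hX) hX.2.1
  · -- stage `s`
    have hX := zc_elab (lev (S : Subgroup G) s)
    have hFN : F ≤ normalizer (zc (lev (S : Subgroup G) s) : Set G) :=
      (le_normalizer_o2 F).trans ((LB.lev S s).nrm _ (isPGroup_o2 F) hlow)
    have hlev : ∀ j, j ≤ n + 1 → lev T j = lev (S : Subgroup G) j := LevD.lev_eq S hT2 hKT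
    have hX1 : ∀ X ∈ BF F (zc (lev (S : Subgroup G) s)), X ≤ T → X ≤ lev (S : Subgroup G) (s + 1) :=
      fun X hXA hXT => by
        rw [← hlev (s + 1) (by omega)]
        have e : lev T (s + 1) = nxt T (lev T s) := rfl
        rw [e, hlev s (by omega)]
        exact NO3S.Level.BO.le_nxt ⟨hXT, hXA.2.2⟩
    refine ⟨BF F (zc (lev (S : Subgroup G) s)), fun Λ hΛ hΛF hn hle => fm_best hX hFN ?_ hn, ?_,
      fun X hXA hXT => ((hX1 X hXA hXT).trans (NO3S.Level.lev_mono _ (by omega))).trans (lb S n).KB,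
      fun X hXA hXT => ?_⟩
    · refine hle.trans (NoFF.Basic.V_le fun f hf => ?_)
      have h1 := cj_mono f (hVs s hs)
      rwa [cj_eq_of_mem_normalizer (hFN hf)] at h1
    · by_contra hcon
      push Not at hcon
      apply hnle
      rw [← hlev (s + 1) (by omega)]
      have e : lev T (s + 1) = nxt T (lev T s) := rfl
      rw [e, hlev s (by omega)]
      have : Fact (Nat.Prime 2) := ⟨Nat.prime_two⟩
      have hNn : F ≤ normalizer ((F ⊓ centralizer (zc (lev (S : Subgroup G) s) : Set G) : Subgroup G) : Set G) := by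
        intro f hf
        rw [mem_normalizer_iff_cj, cj_inf, cj_centralizer, cj_eq_of_mem_normalizer (hFN hf),
          cj_eq_of_mem_normalizer (le_normalizer hf)]
      refine sup_le ?_ (sSup_le fun X hX' => hcon X ⟨hX'.1.trans hp.syl.1, hT2.to_le hX'.1, hX'.2⟩ hX'.1)
      rcases hmp.sup_eq_or_inf_le (p := 2) hT2 (syl_not_dvd hp.syl)
        (N := F ⊓ centralizer (zc (lev (S : Subgroup G) s) : Set G)) inf_le_left hNn with h1 | h1
      · exfalso
        apply hp.nM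
        rw [← h1]
        refine sup_le ((inf_le_right.trans (centralizer_le ?_)).trans hD) hTM
        exact_mod_cast hZV.trans (hVs s hs)
      · refine le_trans (fun x hx => ?_) h1
        exact ⟨hx.1, hp.syl.1 hx.1, hx.2⟩
    · rcases hs.lt_or_eq with hlt | rfl
      · left
        exact fun a ha v hv =>
          hcV a (NO3S.Level.lev_mono (S : Subgroup G) (by omega : s + 1 ≤ n) (hX1 X hXA hXT ha)) v hv
      · exact Or.inr fun F' h1 h2 => hXA.2.2.max F' h2 h1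

/-- the family of a pair, stage `-1`: `𝒜(F)`; the members `≤ T` lie in `𝒜(S)` -/
theorem exists_fam_neg {S : Sylow 2 G} {V : Subgroup G} {M T F : Subgroup G}
    (hp : Pair (jj (S : Subgroup G)) (bau (S : Subgroup G)) V (zj (S : Subgroup G)) M T F)
    (hZM : normalizer (zj (S : Subgroup G) : Set G) ≤ M) :
    ∃ 𝓐 : Set (Subgroup G), FmX (bau (S : Subgroup G)) V T F (fun X => X ∈ AA (S : Subgroup G)) 𝓐 := by
  have hb := LB.neg S
  have hnK : ¬ jj (S : Subgroup G) ≤ o2 F := fun hle =>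
    hp.nM ((le_normalizer_o2 F).trans ((hb.nrm _ (isPGroup_o2 F) hle).trans hZM))
  have hjT : jj T = jj (S : Subgroup G) := LemmaK.Main.jj_eq S hp.syl.2.1 hp.BT
  have hX : ∀ X ∈ AA F, X ≤ T → X ∈ AA (S : Subgroup G) := fun X hX hXT =>
    Swap.AA_two S hp.syl.2.1 hp.BT (Swap.AA_of_le hX hXT hp.syl.1)
  refine ⟨AA F, fun Λ hΛ hΛF hn _ => fm_AA hΛ hΛF hn, ?_, fun X hXA hXT =>
    (le_jj (hX X hXA hXT)).trans hb.KB, hX⟩
  by_contra hcon
  push Not at hcon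
  apply hnK
  rw [← hjT, Cfsg.Agent.ZN.ChoiceBase.jj_eq]
  exact sSup_le fun X hX => hcon X (Swap.AA_of_syl hp.syl hX) hX.2.1

/-! ### The instances -/

/-- **Stage `n`**, any `q`, from the frame `FrL`. -/
theorem crB_lev {ι : Type} [Finite ι] {S : Sylow 2 G} {V Q : Subgroup G} {n : ℕ} {L W Z C A : ι → Subgroup G} {q : ℕ}
    (hfr : FrL (BL (S : Subgroup G) n) Q V (zc (lev (S : Subgroup G) n)) (ZL (S : Subgroup G) n) L W Z C A q)
    (hG : IsCharacteristicTwoType G) (hlow : V ≤ o2 (centralizer (zc (S : Subgroup G) : Set G)))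
    (hoff : ∀ T : Subgroup G, IsPGroup 2 T → BL (S : Subgroup G) n ≤ T → ∀ f : G, cj f V ≤ T → V ≤ cj f T →
      ∀ x ∈ V, ∀ y ∈ V, x * (f * y * f⁻¹) = f * y * f⁻¹ * x) :
    CrB S (lev (S : Subgroup G) (n + 1)) (BL (S : Subgroup G) n) V (ZL (S : Subgroup G) n) where
  lb := lb S n
  wc := wc S n
  zcS := (lev_isLev (S : Subgroup G) (n + 1)).zc_le
  VB := hfr.VQ.trans hfr.QB
  nV := fun g hg => (hfr.norm_of hg (NO3S.Level.normalizer_le_zc _ (norm_lev S (by omega) hg))).1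
  char2 := hG
  low := hlow
  noff := hoff
  fixPt := fun _ _ hq =>
    inf_le_right.trans (LevD.fixPt S hq.syl ((lb S n).KB.trans hq.BT) hq.min hq.nK hq.cz)

/-- **Stage `-1`.** -/
theorem crB_neg {S : Sylow 2 G} {V : Subgroup G} (hVB : V ≤ bau (S : Subgroup G))
    (hnV : ∀ g ∈ normalizer (bau (S : Subgroup G) : Set G), cj g V = V)
    (hG : IsCharacteristicTwoType G) (hlow : V ≤ o2 (centralizer (zc (S : Subgroup G) : Set G)))
    (hoff : ∀ T : Subgroup G, IsPGroup 2 T → bau (S : Subgroup G) ≤ T → ∀ f : G, cj f V ≤ T → V ≤ cj f T →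
      ∀ x ∈ V, ∀ y ∈ V, x * (f * y * f⁻¹) = f * y * f⁻¹ * x) :
    CrB S (jj (S : Subgroup G)) (bau (S : Subgroup G)) V (zj (S : Subgroup G)) where
  lb := LB.neg S
  wc := UniPlus.wc_bau S
  zcS := zc_le_zj _
  VB := hVB
  nV := hnV
  char2 := hG
  low := hlow
  noff := hoff
  fixPt := fun _ _ hq =>
    inf_le_right.trans (LevD.fixPt_neg S hq.syl ((LB.neg S).KB.trans hq.BT) hq.min hq.nK hq.cz)

end Cfsg.Agent.Omega.OM.SwapV

end

-- merged: Cfsg.Agent.Mrg.Omega.NOThreeL.QWR.Sw.Base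
section

section


/-!
# THEOREM SW at the top level `(Q, V)`, `Q = C_S(V)` weakly closed, `Ω₁Z(Q) = V` (box R, one class)

`Z_J = ZK S Q = Ω₁Z(nxt S Q)`, `B = BK S Q = C_S(Z_J)`.

* `LtV S V Q` : the level; `OffR S V Q` : for `B ≤ T ≤ S`, `F ∈ P(T)`, `F ≤ C_G(Z(S))`, `J(S) ≤ O₂(F)`, `Q ≰ O₂(F)`,
  `O²(F)` moves `Z_J`: a best offender `A ≤ T` on `⟨V^F⟩` is not in `O₂(F)` (THEOREM QW);
* `LtV.off` : the same for all 2-groups `T ≥ B`, `F ≤ C_G(Ω₁Z(S)^g)`, `g ∈ N_G(B)`;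
* `LtV.crB` : the `q`-free ground frame `CrB` (with `fixPt`);
* `LtV.fam` : the families of offenders of the pairs.
-/

set_option autoImplicit false
set_option linter.unusedSectionVars false

namespace Cfsg.Agent.Omega.NOThreeL.QWR.Sw

open Subgroup Cfsg Cfsg.Agent.ZN.ChoiceBase Cfsg.Agent.ZN.ChoiceSit
open Cfsg.Agent.ZN (jj zj bau zc zl o2)
open Cfsg.Agent.MinSimple.MinParabolic (IsMinPar)
open Cfsg.Agent.MinSimple.VModule (oddGen oddGen_le)
open Cfsg.Agent.Omega.NO1.BestOff (Best)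
open Cfsg.Agent.Omega.NO3S.Level (lev Lev lev_isLev BO nxt)
open Cfsg.Agent.Omega.OM.LevD (LB)
open Cfsg.Agent.Omega.OM.SwapK (WL BK ZK best_of_le)
open Cfsg.Agent.Omega.OM.SwapV (Quiet Pair CrB CrA FmX PF exists_cj_S)
open Cfsg.Agent.Omega.OM.Swap.Fam (Fm BF fm_AA fm_best)
open Cfsg.Agent.Omega.OM (LevD.norm_of_wc)

universe u

variable {G : Type u} [Group G] [Finite G]

/-- The level `(Q, V)`. -/
structure LtV (S : Sylow 2 G) (V Q : Subgroup G) : Prop where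
  wl : WL S Q
  zcQ : zc Q = V
  char2 : IsCharacteristicTwoType G
  low : V ≤ o2 (centralizer (zc (S : Subgroup G) : Set G))
  noff : ∀ T : Subgroup G, IsPGroup 2 T → BK (S : Subgroup G) Q ≤ T → ∀ f : G, cj f V ≤ T → V ≤ cj f T →
    ∀ x ∈ V, ∀ y ∈ V, x * (f * y * f⁻¹) = f * y * f⁻¹ * x

/-- **THEOREM QW** as a hypothesis. -/
def OffR (S : Sylow 2 G) (V Q : Subgroup G) : Prop :=
  ∀ T F : Subgroup G, Syl T F → BK (S : Subgroup G) Q ≤ T → T ≤ (S : Subgroup G) → IsMinPar T F →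
    F ⊓ centralizer (o2 F : Set G) ≤ o2 F → F ≤ centralizer (zc (S : Subgroup G) : Set G) →
    jj (S : Subgroup G) ≤ o2 F → ¬ Q ≤ o2 F → ¬ oddGen F ≤ centralizer (ZK (S : Subgroup G) Q : Set G) →
    ∃ A ≤ T, Best (NoFF.Basic.V V F) A ∧ ¬ A ≤ o2 F

/-! ### Conjugation -/

omit [Finite G] in
theorem isMinPar_cj {T P : Subgroup G} (g : G) (h : IsMinPar T P) : IsMinPar (cj g T) (cj g P) where
  le := cj_mono g h.le
  not_le := by
    intro h1
    rw [← cj_normalizer, cj_le_iff, cj_inv_cj] at h1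
    exact h.not_le h1
  exists_max := by
    obtain ⟨N, hN, hmax⟩ := h.exists_max
    refine ⟨cj g N, lt_of_le_of_ne (cj_mono g hN.le) fun e => hN.ne ?_, fun K hK hKP => ?_⟩
    · rw [← cj_inv_cj g N, e, cj_inv_cj]
    · have h1 : K = cj g (cj g⁻¹ K) := (cj_cj_inv g K).symm
      rw [h1]
      refine cj_mono g (hmax _ ?_ (lt_of_le_of_ne ?_ fun e => hKP.ne ?_))
      · rw [← cj_le_iff]; exact hK
      · have h2 := cj_mono g⁻¹ hKP.le
        rwa [cj_inv_cj] at h2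
      · rw [h1, e]

omit [Finite G] in
theorem oddGen_cj (g : G) (X : Subgroup G) : oddGen (cj g X) = cj g (oddGen X) := by
  unfold cj oddGen
  rw [MonoidHom.map_closure]
  congr 1
  ext x
  constructor
  · rintro ⟨⟨y, hy, rfl⟩, hy'⟩
    refine ⟨y, ⟨hy, ?_⟩, rfl⟩
    have : orderOf ((MulAut.conj g).toMonoidHom y) = orderOf y := orderOf_injective _ (MulAut.conj g).injective y
    rwa [this] at hy'
  · rintro ⟨y, ⟨hy, hy'⟩, rfl⟩
    refine ⟨⟨y, hy, rfl⟩, ?_⟩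
    have : orderOf ((MulAut.conj g).toMonoidHom y) = orderOf y := orderOf_injective _ (MulAut.conj g).injective y
    rwa [this]

omit [Finite G] in
theorem syl_cj {T X : Subgroup G} (g : G) (h : Syl T X) : Syl (cj g T) (cj g X) := by
  refine ⟨cj_mono g h.1, isPGroup_cj g h.2.1, fun Q hQ h2 hle => ?_⟩
  have h3 : cj g⁻¹ Q ≤ X := by
    have := cj_mono g⁻¹ hQ
    rwa [cj_inv_cj] at this
  have h4 : T ≤ cj g⁻¹ Q := by
    have := cj_mono g⁻¹ hle
    rwa [cj_inv_cj] at this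
  have h5 := h.2.2 _ h3 (isPGroup_cj g⁻¹ h2) h4
  rw [← h5, cj_cj_inv]

omit [Finite G] in
theorem cj_V (n : G) (X Y : Subgroup G) : cj n (NoFF.Basic.V X Y) = NoFF.Basic.V (cj n X) (cj n Y) := by
  have key : ∀ (n : G) (X Y : Subgroup G), NoFF.Basic.V (cj n X) (cj n Y) ≤ cj n (NoFF.Basic.V X Y) := by
    intro n X Y
    refine NoFF.Basic.V_le fun p hp => ?_
    rw [mem_cj] at hp
    have h1 : cj (n⁻¹ * p * n) X ≤ NoFF.Basic.V X Y := NoFF.Basic.Z_le_V hp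
    have h2 := cj_mono n h1
    rw [cj_cj] at h2
    have e : n * (n⁻¹ * p * n) = p * n := by group
    rw [e, ← cj_cj] at h2
    exact h2
  refine le_antisymm ?_ (key n X Y)
  have h1 := cj_mono n (key n⁻¹ (cj n X) (cj n Y))
  rwa [cj_inv_cj, cj_inv_cj, cj_cj_inv] at h1

omit [Finite G] in
/-- conjugates of best offenders -/
theorem best_cj {V A : Subgroup G} (h : Best V A) (g : G) : Best (cj g V) (cj g A) := by
  have hcc : ∀ X : Subgroup G, centralizer ((cj g X : Subgroup G) : Set G) = cj g (centralizer (X : Set G)) :=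
    fun X => (cj_centralizer g X).symm
  refine ⟨⟨fun a ha => ?_, fun a ha b hb => ?_⟩, fun F h2 h1 => ?_⟩
  · rw [hcc, mem_cj]
    have := h.sq _ (mem_cj.1 ha)
    have e : (g⁻¹ * a * g) ^ 2 = g⁻¹ * a ^ 2 * g := by rw [pow_two, pow_two]; group
    rwa [e] at this
  · rw [hcc, mem_cj]
    have := h.comm _ (mem_cj.1 ha) _ (mem_cj.1 hb)
    have e : g⁻¹ * a * g * (g⁻¹ * b * g) * (g⁻¹ * a * g)⁻¹ * (g⁻¹ * b * g)⁻¹ = g⁻¹ * (a * b * a⁻¹ * b⁻¹) * g := by
      group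
    rwa [e] at this
  · have e0 : ∀ X : Subgroup G, cj g (cj g⁻¹ X) = X := fun X => by rw [cj_cj, mul_inv_cancel, cj_one]
    have e0' : ∀ X : Subgroup G, cj g⁻¹ (cj g X) = X := fun X => by rw [cj_cj, inv_mul_cancel, cj_one]
    have h3 : A ⊓ centralizer (V : Set G) ≤ cj g⁻¹ F := by
      rw [hcc, ← cj_inf] at h1
      have := cj_mono g⁻¹ h1
      rwa [e0'] at this
    have h4 : cj g⁻¹ F ≤ A := by
      have := cj_mono g⁻¹ h2
      rwa [e0'] at this
    have h5 := h.max _ h4 h3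
    have e2 : Nat.card ↥(cj g V ⊓ centralizer (F : Set G)) = Nat.card ↥(V ⊓ centralizer (cj g⁻¹ F : Set G)) := by
      conv_lhs => rw [← e0 F, hcc, ← cj_inf, card_cj]
    rw [e2, hcc, ← cj_inf, card_cj, card_cj, ← card_cj g⁻¹ F]
    exact h5

namespace LtV

variable {S : Sylow 2 G} {V Q : Subgroup G} (h : LtV S V Q)
include h

theorem lb : LB S (nxt (S : Subgroup G) Q) (BK (S : Subgroup G) Q) (ZK (S : Subgroup G) Q) := h.wl.lb

theorem wcB : OM.WeakCl.WC (BK (S : Subgroup G) Q) := h.wl.wcB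

theorem VQ : V ≤ Q := by rw [← h.zcQ]; exact Cfsg.Agent.MinSimple.VModule.zc_le _

theorem QB : Q ≤ BK (S : Subgroup G) Q := h.wl.K₀B

theorem VB : V ≤ BK (S : Subgroup G) Q := h.VQ.trans h.QB

theorem cV {a v : G} (ha : a ∈ Q) (hv : v ∈ V) : a * v = v * a := by
  rw [← h.zcQ] at hv
  exact (mem_zc.1 hv).2.2 a ha

theorem elemV : IsElementaryAbelian 2 V := by
  rw [← h.zcQ]
  exact OM.SwapL.zc_elab Q

theorem ZV : ZK (S : Subgroup G) Q ≤ V := by
  rw [← h.zcQ]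
  exact h.wl.lev.zc_le_zc (NO3S.Level.le_nxt h.wl.lev.le) (NO3S.Level.nxt_le _ _)

theorem zcS : zc (S : Subgroup G) ≤ ZK (S : Subgroup G) Q := h.wl.lev.next.zc_le

/-- `N_G(B) ≤ N_G(V)` -/
theorem nV {g : G} (hg : g ∈ normalizer (BK (S : Subgroup G) Q : Set G)) : cj g V = V := by
  have h1 := NO3S.Level.normalizer_le_zc _ (h.wl.norm_B hg)
  rw [h.zcQ] at h1
  exact cj_eq_of_mem_normalizer h1

theorem nQ {g : G} (hg : g ∈ normalizer (BK (S : Subgroup G) Q : Set G)) : cj g Q = Q :=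
  cj_eq_of_mem_normalizer (h.wl.norm_B hg)

theorem nZK {g : G} (hg : g ∈ normalizer (BK (S : Subgroup G) Q : Set G)) :
    cj g (ZK (S : Subgroup G) Q) = ZK (S : Subgroup G) Q :=
  cj_eq_of_mem_normalizer (h.lb.norm_B_le hg)

theorem jB : jj (S : Subgroup G) ≤ BK (S : Subgroup G) Q := h.wl.lev.jjle.trans h.QB

/-- `N_G(B) ≤ N_G(J(S))` -/
theorem nj {g : G} (hg : g ∈ normalizer (BK (S : Subgroup G) Q : Set G)) :
    cj g (jj (S : Subgroup G)) = jj (S : Subgroup G) :=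
  OM.LevD.norm_of_wc (NO3S.Level.wc_jj S) h.lb.Bp h.jB hg

/-- a conjugate of `B` inside `S` is `B` -/
theorem mem_nB {g : G} (hg : cj g (BK (S : Subgroup G) Q) ≤ (S : Subgroup G)) :
    g ∈ normalizer (BK (S : Subgroup G) Q : Set G) :=
  mem_normalizer_iff_cj.2 (h.wcB _ S.isPGroup' h.lb.BS _ hg)

/-- a 2-group over `B` lies in `S^g`, `g ∈ N_G(B)`, and `Ω₁Z(S)^g ≤ Ω₁Z(T)`. -/
theorem exists_cj {T : Subgroup G} (hT : IsPGroup 2 T) (hB : BK (S : Subgroup G) Q ≤ T) :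
    ∃ g ∈ normalizer (BK (S : Subgroup G) Q : Set G), T ≤ cj g (S : Subgroup G) ∧ cj g (zc (S : Subgroup G)) ≤ zc T := by
  obtain ⟨g, hg, hle⟩ := exists_cj_S h.wcB h.lb.BS hT hB
  refine ⟨g, hg, hle, ?_⟩
  intro z hz
  have h6 := cj_mono g h.zcS hz
  rw [h.nZK hg] at h6
  have h4 : z ∈ T := hB (h.lb.ZB h6)
  rw [← NO3S.Level.zc_cj] at hz
  obtain ⟨h5, h6, h7⟩ := mem_zc.1 hz
  exact mem_zc.2 ⟨h4, h6, fun y hy => h7 y (hle hy)⟩

/-- **(C)** `B ≤ T ≤ F ≤ C_G(Z^g)`, `g ∈ N_G(B)`: some `x ∈ N_G(B)` has `T ≤ S^x`, `Z^x = Z^g`. -/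
theorem exists_both {T F : Subgroup G} (hT : IsPGroup 2 T) (hB : BK (S : Subgroup G) Q ≤ T) (hTF : T ≤ F) {g : G}
    (hF : F ≤ centralizer (cj g (zc (S : Subgroup G)) : Set G)) :
    ∃ x ∈ normalizer (BK (S : Subgroup G) Q : Set G), T ≤ cj x (S : Subgroup G) ∧
      F ≤ centralizer (cj x (zc (S : Subgroup G)) : Set G) := by
  have hS : Syl (cj g (S : Subgroup G)) (centralizer (cj g (zc (S : Subgroup G)) : Set G)) := by
    have h1 : Syl (S : Subgroup G) (centralizer (zc (S : Subgroup G) : Set G)) :=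
      ⟨Cfsg.Agent.MinSimple.VModule.le_centralizer_zc _, S.isPGroup', fun Q _ hQ hle => S.is_maximal' hQ hle⟩
    have h2 := syl_cj g h1
    rwa [cj_centralizer] at h2
  obtain ⟨T₁, hT₁, hle⟩ := exists_syl hT (hTF.trans hF)
  obtain ⟨c, hc, rfl⟩ := syl_conj hS hT₁
  rw [cj_cj] at hle
  refine ⟨c * g, ?_, hle, ?_⟩
  · have h1 : cj (c * g)⁻¹ (BK (S : Subgroup G) Q) ≤ (S : Subgroup G) := by
      have := cj_mono (c * g)⁻¹ (hB.trans hle)
      rwa [cj_inv_cj] at this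
    have h2 := inv_mem (h.mem_nB h1)
    rwa [inv_inv] at h2
  · rw [← cj_cj, cj_eq_of_mem_normalizer (centralizer_le_normalizer _ hc)]
    exact hF

/-- **`OffR` for all 2-groups `T ≥ B`.** -/
theorem off (ho : OffR S V Q) {T F : Subgroup G} (hT : Syl T F) (hB : BK (S : Subgroup G) Q ≤ T) (hmin : IsMinPar T F)
    (hc : F ⊓ centralizer (o2 F : Set G) ≤ o2 F) {g : G}
    (hF : F ≤ centralizer (cj g (zc (S : Subgroup G)) : Set G)) (hj : jj (S : Subgroup G) ≤ o2 F) (hQ : ¬ Q ≤ o2 F)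
    (hmv : ¬ oddGen F ≤ centralizer (ZK (S : Subgroup G) Q : Set G)) :
    ∃ A ≤ T, Best (NoFF.Basic.V V F) A ∧ ¬ A ≤ o2 F := by
  obtain ⟨x, hx, hTx, hFx⟩ := h.exists_both hT.2.1 hB hT.1 hF
  have hx' := inv_mem hx
  have e2 : cj x⁻¹ (BK (S : Subgroup G) Q) = BK (S : Subgroup G) Q := cj_eq_of_mem_normalizer hx'
  have key := ho (cj x⁻¹ T) (cj x⁻¹ F) (syl_cj _ hT) ?_ ?_ (isMinPar_cj _ hmin) ?_ ?_ ?_ ?_ ?_
  · obtain ⟨A, hA, hb, hn⟩ := key
    refine ⟨cj x A, ?_, ?_, fun hle => hn ?_⟩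
    · have := cj_mono x hA
      rwa [cj_cj_inv] at this
    · have h1 := best_cj hb x
      rw [cj_V, cj_cj_inv, h.nV hx] at h1
      exact h1
    · have h1 := cj_mono x⁻¹ hle
      rw [cj_inv_cj, ← pCore_cj] at h1
      exact h1
  · have h1 := cj_mono x⁻¹ hB
    rwa [e2] at h1
  · have h1 := cj_mono x⁻¹ hTx
    rwa [cj_inv_cj] at h1
  · have h1 := cj_mono x⁻¹ hc
    rwa [cj_inf, cj_centralizer, ← pCore_cj] at h1
  · have h1 := cj_mono x⁻¹ hFx
    rwa [cj_centralizer, cj_inv_cj] at h1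
  · have h1 := cj_mono x⁻¹ hj
    rwa [h.nj hx', ← pCore_cj] at h1
  · intro hle
    apply hQ
    have h1 := cj_mono x hle
    rwa [h.nQ hx, pCore_cj, cj_cj_inv] at h1
  · intro hle
    apply hmv
    have h1 := cj_mono x hle
    rwa [oddGen_cj, cj_cj_inv, cj_centralizer, h.nZK hx] at h1

/-- `V ≤ O₂(Y)` if `Y` centralises `Ω₁(Z(T))`, `B ≤ T ≤ Y`. -/
theorem V_le_o2 {T Y : Subgroup G} (hT : IsPGroup 2 T)
    (hB : BK (S : Subgroup G) Q ≤ T) (hTY : T ≤ Y) (hY : Y ≤ centralizer (zc T : Set G)) : V ≤ o2 Y := by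
  obtain ⟨g, hgN, -, h3⟩ := h.exists_cj hT hB
  have h4 : Y ≤ centralizer (cj g (zc (S : Subgroup G)) : Set G) := hY.trans (centralizer_le h3)
  have h5 : V ≤ o2 (centralizer (cj g (zc (S : Subgroup G)) : Set G)) := by
    have h6 := cj_mono g h.low
    rw [h.nV hgN, ← pCore_cj, cj_centralizer] at h6
    exact h6
  have h6 : V ≤ o2 (centralizer (cj g (zc (S : Subgroup G)) : Set G)) ⊓ Y :=
    le_inf h5 ((h.VB.trans hB).trans hTY)
  refine h6.trans (le_o2 ((isPGroup_o2 _).to_le inf_le_left) inf_le_right ?_)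
  intro y hy
  rw [mem_normalizer_iff_cj, cj_inf, cj_eq_of_mem_normalizer (Cfsg.Agent.MinSimple.VModule.le_normalizer_o2 _ (h4 hy)),
    cj_eq_of_mem_normalizer (le_normalizer hy)]

/-- `⟨V^F⟩` is elementary abelian if `V ≤ O₂(F)`. -/
theorem elab_VF {T F : Subgroup G} (hT : Syl T F) (hB : BK (S : Subgroup G) Q ≤ T) (hV : V ≤ o2 F) :
    IsElementaryAbelian 2 (NoFF.Basic.V V F) := by
  have hcom : ∀ f ∈ F, ∀ x ∈ V, ∀ y ∈ V, x * (f * y * f⁻¹) = f * y * f⁻¹ * x := by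
    intro f hf x hx y hy
    have hO : o2 F ≤ T := o2_le_syl hT
    have hcO : cj f (o2 F) = o2 F := cj_eq_of_mem_normalizer (Cfsg.Agent.MinSimple.VModule.le_normalizer_o2 F hf)
    refine h.noff T hT.2.1 hB f ?_ ?_ x hx y hy
    · have := cj_mono f hV
      rw [hcO] at this
      exact this.trans hO
    · have := cj_mono f hO
      rw [hcO] at this
      exact hV.trans this
  have h1 := OM.Swap.elab_iSup (W := fun f : F => cj (f : G) V) (fun f f' x hx y hy => ?_)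
    fun f x hx => ?_
  · exact OM.Swap.elab_of h1.1 h1.2
  · rw [mem_cj] at hx hy
    have h2 := hcom ((f : G)⁻¹ * f') (mul_mem (inv_mem f.2) f'.2) _ hx _ hy
    have e1 : (f : G)⁻¹ * f' * ((f' : G)⁻¹ * y * f') * ((f : G)⁻¹ * f')⁻¹ = (f : G)⁻¹ * y * f := by group
    rw [e1] at h2
    have h3 := congrArg (fun t => (f : G) * t * (f : G)⁻¹) h2
    have e2 : (f : G) * ((f : G)⁻¹ * x * f * ((f : G)⁻¹ * y * f)) * (f : G)⁻¹ = x * y := by group
    have e3 : (f : G) * ((f : G)⁻¹ * y * f * ((f : G)⁻¹ * x * f)) * (f : G)⁻¹ = y * x := by group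
    exact e2.symm.trans (h3.trans e3)
  · rw [mem_cj] at hx
    have h2 := SQ1.Bau.elem_sq h.elemV _ hx
    rw [pow_two] at h2
    have e : x * x = f * ((f : G)⁻¹ * x * f * ((f : G)⁻¹ * x * f)) * (f : G)⁻¹ := by group
    rw [e, h2]; group

omit h in
/-- `V ≤ ⟨V^F⟩` -/
theorem V_le_VF (V F : Subgroup G) : V ≤ NoFF.Basic.V V F := by
  have h1 := NoFF.Basic.Z_le_V (Z := V) (one_mem F)
  rwa [map_one, one_smul] at h1

/-- **Fixed points do not lift**, from one best offender on `⟨V^F⟩` outside `O₂(F)`. -/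
theorem fix_of_off {T F : Subgroup G} (hT : Syl T F) (hB : BK (S : Subgroup G) Q ≤ T) (hmin : IsMinPar T F)
    (hV : V ≤ o2 F) (hz : F ≤ centralizer (zc T : Set G))
    (hoff : ∃ A ≤ T, Best (NoFF.Basic.V V F) A ∧ ¬ A ≤ o2 F) :
    NoFF.Basic.V V F ⊓ zc (o2 F) ≤ centralizer (oddGen F : Set G) := by
  obtain ⟨A, hAT, hb, hAO⟩ := hoff
  have hOT : o2 F ≤ T := o2_le_syl hT
  have hel := h.elab_VF hT hB hV
  have hc : ∀ x ∈ NoFF.Basic.V V F, ∀ y ∈ NoFF.Basic.V V F, x * y = y * x := fun x hx y hy =>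
    SQ1.Bau.elem_comm hel x hx y hy
  have hb' : Best (NoFF.Basic.V V F ⊓ zc (o2 F)) A := best_of_le hc hb inf_le_left
  have hUO : NoFF.Basic.V V F ⊓ zc (o2 F) ≤ o2 F := inf_le_right.trans (Cfsg.Agent.MinSimple.VModule.zc_le _)
  have hsq : ∀ y ∈ NoFF.Basic.V V F ⊓ zc (o2 F), y ^ 2 = 1 := fun u hu => (mem_zc.1 hu.2).2.1
  have hcom : NoFF.Basic.V V F ⊓ zc (o2 F) ≤
      centralizer ((NoFF.Basic.V V F ⊓ zc (o2 F) : Subgroup G) : Set G) := by
    intro u hu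
    rw [mem_centralizer_iff]
    exact fun v hv => (mem_zc.1 hu.2).2.2 v (mem_zc.1 hv.2).1
  have hN : F ≤ normalizer ((NoFF.Basic.V V F ⊓ zc (o2 F) : Subgroup G) : Set G) :=
    NO3b.K0.norm_inf OmThm.XD.X_le_normalizer_W
      ((Cfsg.Agent.MinSimple.VModule.le_normalizer_o2 F).trans (NO3S.Level.normalizer_le_zc _))
  have hQ : o2 F ≤ centralizer ((NoFF.Basic.V V F ⊓ zc (o2 F) : Subgroup G) : Set G) :=
    (NO3S.Level.le_centralizer_zc _).trans (centralizer_le inf_le_right)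
  refine NO3S.Fld.ff_lemma_off FF.Glob.aStmt hT hmin (hUO.trans (o2_le F)) hsq hcom hN hQ ?_ hAT hAO hb'.toElemM ?_
  · rintro x ⟨hx, hxT⟩
    have hxz : x ∈ zc T := mem_zc.2 ⟨hOT (hUO hx), hsq x hx, fun t ht => mem_centralizer_iff.1 hxT t ht⟩
    rw [mem_centralizer_iff]
    exact fun e he => (mem_centralizer_iff.1 (hz (oddGen_le F he)) x hxz).symm
  · have h2 := hb'.max (A ⊓ centralizer ((NoFF.Basic.V V F ⊓ zc (o2 F) : Subgroup G) : Set G)) inf_le_left le_rfl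
    have e : (NoFF.Basic.V V F ⊓ zc (o2 F)) ⊓
        centralizer ((A ⊓ centralizer ((NoFF.Basic.V V F ⊓ zc (o2 F) : Subgroup G) : Set G) :
        Subgroup G) : Set G) = NoFF.Basic.V V F ⊓ zc (o2 F) :=
      inf_eq_left.2 (le_centralizer_iff.1 inf_le_right)
    rw [e, mul_comm] at h2
    exact h2

/-- the fixed point property of quiet minimal parabolics -/
theorem fixPt (ho : OffR S V Q) (T Y : Subgroup G)
    (hq : Quiet (nxt (S : Subgroup G) Q) (BK (S : Subgroup G) Q) T Y) :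
    ZK (S : Subgroup G) Q ⊓ zc (o2 Y) ≤ centralizer (oddGen Y : Set G) := by
  have hKT := h.lb.KB.trans hq.BT
  by_cases hQ : Q ≤ o2 Y
  · exact inf_le_right.trans (h.wl.fixPt hq.syl hKT hq.min hQ hq.nK hq.cz)
  by_cases hj : jj (S : Subgroup G) ≤ o2 Y
  · by_cases hmv : oddGen Y ≤ centralizer (ZK (S : Subgroup G) Q : Set G)
    · exact inf_le_left.trans (le_centralizer_iff.1 hmv)
    · obtain ⟨g, hg, -, hz⟩ := h.exists_cj hq.syl.2.1 hq.BT
      have hV := h.V_le_o2 hq.syl.2.1 hq.BT hq.min.le hq.cz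
      have hoff := h.off ho hq.syl hq.BT hq.min hq.c2 (hq.cz.trans (centralizer_le hz)) hj hQ hmv
      exact (inf_le_inf_right _ (h.ZV.trans (V_le_VF V Y))).trans
        (h.fix_of_off hq.syl hq.BT hq.min hV hq.cz hoff)
  · exact inf_le_right.trans (OM.LevD.fixPt_neg S hq.syl (h.jB.trans hq.BT) hq.min hj hq.cz)

/-- **The `q`-free ground frame.** -/
theorem crB (ho : OffR S V Q) :
    CrB S (nxt (S : Subgroup G) Q) (BK (S : Subgroup G) Q) V (ZK (S : Subgroup G) Q) where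
  lb := h.lb
  wc := h.wcB
  zcS := h.zcS
  VB := h.VB
  nV := fun _ hg => h.nV hg
  char2 := h.char2
  low := h.low
  noff := h.noff
  fixPt := h.fixPt ho

/-- **The families of offenders of the pairs.** -/
theorem fam (ho : OffR S V Q) {M T F : Subgroup G}
    (hp : Pair (nxt (S : Subgroup G) Q) (BK (S : Subgroup G) Q) V (ZK (S : Subgroup G) Q) M T F)
    (hD : centralizer (ZK (S : Subgroup G) Q : Set G) ≤ M)
    (hZM : normalizer (ZK (S : Subgroup G) Q : Set G) ≤ M) (hTM : T ≤ M) :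
    ∃ 𝓐 : Set (Subgroup G), FmX (BK (S : Subgroup G) Q) V T F
      (fun X => (∀ a ∈ X, ∀ v ∈ V, a * v = v * a) ∨ Best V X) 𝓐 := by
  classical
  have hb := h.crB ho
  have hT2 := hp.syl.2.1
  have hKT : nxt (S : Subgroup G) Q ≤ T := h.lb.KB.trans hp.BT
  have h0T : jj (S : Subgroup G) ≤ T := h.jB.trans hp.BT
  have hmp : IsMinPar T F := hb.pair_min hp hZM
  have hnK := hb.pair_nK hp hZM
  have hV : V ≤ o2 F := hp.VO
  have hel := hb.elab_Lam h.elemV hp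
  have hcF : F ⊓ centralizer (o2 F : Set G) ≤ o2 F := by
    obtain ⟨T₀, Y, hq, -, hFY, hO⟩ := hp.org
    exact (inf_le_inf hFY (centralizer_le hO)).trans (hq.c2.trans hO)
  by_cases hj : jj (S : Subgroup G) ≤ o2 F
  swap
  · -- stage `-1`
    have hjT : jj T = jj (S : Subgroup G) := MinSimple.EmptyTI.jj_eq S hT2 h0T
    have hX2 : ∀ X ∈ AA F, X ≤ T → X ≤ Q := fun X hX hXT => by
      have h1 := le_jj (OM.Swap.AA_of_le hX hXT hp.syl.1)
      rw [hjT] at h1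
      exact h1.trans h.wl.lev.jjle
    refine ⟨AA F, fun Λ hΛ hΛF hn _ => fm_AA hΛ hΛF hn, ?_, fun X hX hXT => (hX2 X hX hXT).trans h.QB,
      fun X hX hXT => Or.inl fun a ha v hv => h.cV (hX2 X hX hXT ha) hv⟩
    by_contra hcon
    push Not at hcon
    apply hj
    rw [← hjT, Cfsg.Agent.ZN.ChoiceBase.jj_eq]
    exact sSup_le fun X hX => hcon X (OM.Swap.AA_of_syl hp.syl hX) hX.2.1
  by_cases hQ : Q ≤ o2 F
  · -- the top stage
    have hX := OM.SwapL.zc_elab Q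
    have hFN : F ≤ normalizer (zc Q : Set G) :=
      (Cfsg.Agent.MinSimple.VModule.le_normalizer_o2 F).trans
        ((h.wl.norm_T (isPGroup_o2 F) hQ).trans (NO3S.Level.normalizer_le_zc _))
    have hX1 : ∀ X ∈ BF F (zc Q), X ≤ T → X ≤ nxt (S : Subgroup G) Q := fun X hXA hXT =>
      h.wl.le_nxt_of_best hT2 hKT hXT hXA.2.2
    refine ⟨BF F (zc Q), fun Λ hΛ hΛF hn hle => fm_best hX hFN ?_ hn, ?_,
      fun X hXA hXT => (hX1 X hXA hXT).trans h.lb.KB, fun X hXA hXT => Or.inr (by rw [← h.zcQ]; exact hXA.2.2)⟩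
    · refine hle.trans (NoFF.Basic.V_le fun f hf => ?_)
      have h1 := cj_mono f h.zcQ.ge
      rwa [cj_eq_of_mem_normalizer (hFN hf)] at h1
    · by_contra hcon
      push Not at hcon
      apply hnK
      rw [← h.wl.nxt_T hT2 hKT]
      have : Fact (Nat.Prime 2) := ⟨Nat.prime_two⟩
      have hNn : F ≤ normalizer ((F ⊓ centralizer (zc Q : Set G) : Subgroup G) : Set G) := by
        intro f hf
        rw [mem_normalizer_iff_cj, cj_inf, cj_centralizer, cj_eq_of_mem_normalizer (hFN hf),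
          cj_eq_of_mem_normalizer (le_normalizer hf)]
      refine sup_le ?_ (sSup_le fun X hX' => hcon X ⟨hX'.1.trans hp.syl.1, hT2.to_le hX'.1, hX'.2⟩ hX'.1)
      rcases hmp.sup_eq_or_inf_le (p := 2) hT2 (syl_not_dvd hp.syl)
        (N := F ⊓ centralizer (zc Q : Set G)) inf_le_left hNn with h1 | h1
      · exfalso
        apply hp.nM
        rw [← h1]
        refine sup_le ((inf_le_right.trans (centralizer_le ?_)).trans hD) hTM
        have h2 : ZK (S : Subgroup G) Q ≤ zc Q := by rw [h.zcQ]; exact h.ZV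
        exact_mod_cast h2
      · refine le_trans (fun x hx => ?_) h1
        exact ⟨hx.1, hp.syl.1 hx.1, hx.2⟩
  · -- below the top
    obtain ⟨T₀, Y, hq, -, hFY, hO⟩ := hp.org
    obtain ⟨g, hg, -, hz⟩ := h.exists_cj hq.syl.2.1 hq.BT
    have hFz : F ≤ centralizer (cj g (zc (S : Subgroup G)) : Set G) := hFY.trans (hq.cz.trans (centralizer_le hz))
    have hmv : ¬ oddGen F ≤ centralizer (ZK (S : Subgroup G) Q : Set G) := by
      intro hle
      apply hp.nM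
      rw [← OM.Dich.oddGen_sup_syl hp.syl]
      exact sup_le (hle.trans hD) hTM
    obtain ⟨A, hA, hbA, hn⟩ := h.off ho hp.syl hp.BT hmp hcF hFz hj hQ hmv
    have hc : ∀ x ∈ NoFF.Basic.V V F, ∀ y ∈ NoFF.Basic.V V F, x * y = y * x := fun x hx y hy =>
      SQ1.Bau.elem_comm hel x hx y hy
    refine ⟨BF F (NoFF.Basic.V V F), fun Λ _ _ hn hle => fm_best hel OmThm.XD.X_le_normalizer_W hle hn,
      ⟨A, ⟨hA.trans hp.syl.1, hT2.to_le hA, hbA⟩, hA, hn⟩, fun X hX hXT => ?_, fun X hX hXT => ?_⟩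
    · have h1 : Best (zc Q) X := best_of_le hc hX.2.2 (by rw [h.zcQ]; exact V_le_VF V F)
      exact (h.wl.le_nxt_of_best hT2 hKT hXT h1).trans h.lb.KB
    · exact Or.inr (best_of_le hc hX.2.2 (V_le_VF V F))

end LtV

end Cfsg.Agent.Omega.NOThreeL.QWR.Sw

end

section


/-!
# THEOREM SW at the top level `(Q, V)`, `q = 2`: the abstract frame `CrA`

* `LtV.norm` : `N_G(B)` permutes the `Z i`;
* **`LtV.crA`** : `FrL (BK S Q) Q V V (ZK S Q) L W Z C A 2` and `OffR S V Q` give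
  `CrA S (nxt S Q) (BK S Q) V (ZK S Q) L W Z C A`.
-/

set_option autoImplicit false
set_option linter.unusedSectionVars false

namespace Cfsg.Agent.Omega.NOThreeL.QWR.Sw

open Subgroup Cfsg Cfsg.Agent.ZN.ChoiceBase Cfsg.Agent.ZN.ChoiceSit
open Cfsg.Agent.ZN (jj zj bau zc zl o2)
open Cfsg.Agent.Omega.NO3S.Level (nxt)
open Cfsg.Agent.Omega.OM.SwapK (BK ZK)
open Cfsg.Agent.Omega.OM.SwapV (Quiet Pair CrA PF)
open Cfsg.Agent.Omega.OM.Lev.Uni (FrL)

universe u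

variable {G : Type u} [Group G] [Finite G] {S : Sylow 2 G} {V Q : Subgroup G}
  {ι : Type} [Finite ι] {L W Z C A : ι → Subgroup G}

namespace LtV

variable (h : LtV S V Q)
include h

/-- **(U1)**, any `q` -/
theorem norm {q : ℕ} (fr : FrL (BK (S : Subgroup G) Q) Q V V (ZK (S : Subgroup G) Q) L W Z C A q) {g : G}
    (hg : g ∈ normalizer (BK (S : Subgroup G) Q : Set G)) :
    cj g V = V ∧ ∀ i, ∃ j, cj g (Z i) = Z j ∧ cj g (W i) ≤ W j ⊔ ZK (S : Subgroup G) Q :=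
  fr.norm_of hg (mem_normalizer_iff_cj.2 (h.nV hg))

/-- **The abstract frame of THEOREM SW at the top level.** -/
theorem crA (fr : FrL (BK (S : Subgroup G) Q) Q V V (ZK (S : Subgroup G) Q) L W Z C A 2) (ho : OffR S V Q) :
    CrA S (nxt (S : Subgroup G) Q) (BK (S : Subgroup G) Q) V (ZK (S : Subgroup G) Q) L W Z C A where
  lb := h.lb
  wc := h.wcB
  zcS := h.zcS
  zcB := fr.zcB
  blk := fr.blk
  cardZ := fr.cardZ
  el := fr.el
  VB := h.VB
  ZJV := fr.ZJV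
  WV := fr.WV
  CV := fr.CV
  dir := fr.dir
  C0 := fr.C0
  WjC := fr.WjC
  split := fun i _ hz => fr.split_ZJ i hz
  LC := fr.LC
  mov := fun i => by
    have h2 := fr.Ane i
    push Not at h2
    obtain ⟨a, ha, v, hv, hne⟩ := h2
    exact ⟨a, fr.AB i ha, ⟨v, hv, hne⟩, fr.AC i a ha⟩
  conjZ := fun r _ hx => OM.SwapL.conj_ZJ fr r hx
  norm := fun _ hg => h.norm fr hg
  char2 := h.char2
  low := h.low
  noff := h.noff
  fixPt := h.fixPt ho
  fam := fun M T F hp hD hZM hTM => by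
    obtain ⟨𝓐, hA⟩ := h.fam ho hp hD hZM hTM
    refine ⟨𝓐, hA.fam, hA.nJ, hA.XB, fun X hX hXT i hi => ?_⟩
    rcases hA.act X hX hXT with h1 | h1
    · obtain ⟨a, ha, x, hx, hne⟩ := hi
      exact absurd (h1 a ha x (fr.WV i hx)) hne
    · exact OM.SwapL.hat fr (hA.XB X hX hXT) (fun F' h2 h3 => h1.max F' h3 h2) hi
  WC := fr.WC
  AB := fr.AB
  Ane := fr.Ane
  AC := fr.AC
  fmem := fun _ hv hA => fr.mem_ZJ_of hv hA
  fnWr := fun _ _ hi _ hl _ hx => OM.SwapL.nWr fr hi hl hx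
  fstep := fun i _ hv => OM.SwapL.step fr i hv
  fkeep := fun _ _ hij _ hl _ hv hj => OM.SwapL.keep fr hij hl hv hj

end LtV

end Cfsg.Agent.Omega.NOThreeL.QWR.Sw

end

section


/-!
# THEOREM SW at the top level `(Q, V)`, `q ≥ 4`: the ground frame `Gr`

* `LtV.famQ` : the families of offenders of the pairs `PairV` of characteristic 2;
* **`LtV.abQ`** : `FrL (BK S Q) Q V V (ZK S Q) L W Z C A q`, `OffR S V Q`, `perm` and the coordinates give `AbQ`, so `Gr`.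
-/

set_option autoImplicit false
set_option linter.unusedSectionVars false

namespace Cfsg.Agent.Omega.NOThreeL.QWR.Sw

open Subgroup Cfsg Cfsg.Agent.ZN.ChoiceBase Cfsg.Agent.ZN.ChoiceSit
open Cfsg.Agent.ZN (jj zj bau zc zl o2)
open Cfsg.Agent.MinSimple.MinParabolic (IsMinPar)
open Cfsg.Agent.MinSimple.VModule (oddGen oddGen_le)
open Cfsg.Agent.Omega.NO1.BestOff (Best)
open Cfsg.Agent.Omega.NO3S.Level (lev Lev lev_isLev BO nxt)
open Cfsg.Agent.Omega.OM.LevD (LB)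
open Cfsg.Agent.Omega.OM.SwapK (WL BK ZK best_of_le)
open Cfsg.Agent.Omega.OM.Swap.Fam (Fm BF fm_AA fm_best)
open Cfsg.Agent.Omega.OM.SwapV.Q (PairV Cor Gr pair_nK pair_minPar)
open Cfsg.Agent.Omega.OM.Lev.Uni (FrL)

universe u

variable {G : Type u} [Group G] [Finite G]

omit [Finite G] in
theorem comm_of_odd {x r : G} {R : Subgroup G} (hR : IsPGroup 2 R) (ho : Odd (orderOf x))
    (hc : x * r * x⁻¹ * r⁻¹ ∈ R) (hcx : x * (x * r * x⁻¹ * r⁻¹) = (x * r * x⁻¹ * r⁻¹) * x) : x * r = r * x := by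
  set c := x * r * x⁻¹ * r⁻¹ with hcd
  have hxr : x * r = c * r * x := by rw [hcd]; group
  have key : ∀ k : ℕ, x ^ k * r = c ^ k * r * x ^ k := by
    intro k
    induction k with
    | zero => simp
    | succ k ih =>
      have hck : x * c ^ k = c ^ k * x := (show Commute x c from hcx).pow_right k
      calc x ^ (k + 1) * r = x * (x ^ k * r) := by rw [pow_succ', mul_assoc]
        _ = x * c ^ k * r * x ^ k := by rw [ih]; simp only [mul_assoc]
        _ = c ^ k * (x * r) * x ^ k := by rw [hck]; simp only [mul_assoc]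
        _ = c ^ (k + 1) * r * x ^ (k + 1) := by rw [hxr, pow_succ, pow_succ']; simp only [mul_assoc]
  have h1 := key (orderOf x)
  rw [pow_orderOf_eq_one, one_mul, mul_one] at h1
  have h2 : c ^ orderOf x = 1 := by
    have h3 := congrArg (fun t => t * r⁻¹) h1
    simpa using h3.symm
  have h4 : orderOf c ∣ orderOf x := orderOf_dvd_of_pow_eq_one h2
  obtain ⟨m, hm⟩ := hR ⟨c, hc⟩
  have hm' : c ^ 2 ^ m = 1 := by
    have := congrArg Subtype.val hm
    simpa using this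
  have h5 : orderOf c ∣ 2 ^ m := orderOf_dvd_of_pow_eq_one hm'
  have h6 : Nat.Coprime (orderOf x) (2 ^ m) := Nat.Coprime.pow_right m (Nat.Coprime.symm (by
    rw [Nat.coprime_two_left]; exact ho))
  have h7 : orderOf c = 1 := Nat.eq_one_of_dvd_coprimes h6 h4 h5
  rw [orderOf_eq_one_iff] at h7
  rw [hxr, h7, one_mul]

theorem isPGroup_of_odd {X : Subgroup G} (h : ∀ x ∈ X, Odd (orderOf x) → x = 1) : IsPGroup 2 X := by
  rintro ⟨x, hx⟩
  obtain ⟨k, m, hm, he⟩ := Nat.exists_eq_two_pow_mul_odd (n := orderOf x) (orderOf_pos x).ne'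
  refine ⟨k, Subtype.ext ?_⟩
  have h1 : orderOf (x ^ 2 ^ k) = m := by
    rw [orderOf_pow, he]
    have : Nat.gcd (2 ^ k * m) (2 ^ k) = 2 ^ k := by simp
    rw [this, Nat.mul_div_cancel_left m (by positivity)]
  have h2 := h (x ^ 2 ^ k) (pow_mem hx _) (by rw [h1]; exact hm)
  simpa using h2

omit [Finite G] in
theorem eq_one_of_odd {X : Subgroup G} (h : IsPGroup 2 X) {x : G} (hx : x ∈ X) (ho : Odd (orderOf x)) : x = 1 := by
  obtain ⟨m, hm⟩ := h ⟨x, hx⟩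
  have hm' : x ^ 2 ^ m = 1 := by
    have := congrArg Subtype.val hm
    simpa using this
  have h5 : orderOf x ∣ 2 ^ m := orderOf_dvd_of_pow_eq_one hm'
  have h6 : Nat.Coprime (orderOf x) (2 ^ m) := Nat.Coprime.pow_right m (Nat.Coprime.symm (by
    rw [Nat.coprime_two_left]; exact ho))
  exact orderOf_eq_one_iff.1 (Nat.eq_one_of_dvd_coprimes h6 dvd_rfl h5)

namespace LtV

variable {S : Sylow 2 G} {V Q : Subgroup G} (h : LtV S V Q)
include h

/-- `F` has characteristic 2. -/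
theorem c2_of (hV1 : V ≠ ⊥) {T F : Subgroup G} (hT : Syl T F) (hB : BK (S : Subgroup G) Q ≤ T) (hV : V ≤ o2 F) :
    F ⊓ centralizer (o2 F : Set G) ≤ o2 F := by
  have hV2 : IsPGroup 2 V := (isPGroup_o2 F).to_le hV
  have hc := OM.Swap.char2_cent h.char2 hV2 hV1
  set R := o2 (centralizer (V : Set G)) with hR
  have hR2 : IsPGroup 2 R := isPGroup_o2 _
  have hRV : R ≤ centralizer (V : Set G) := o2_le _
  -- `R ≤ B`
  have hSV : (S : Subgroup G) ≤ normalizer (V : Set G) := fun s hs =>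
    mem_normalizer_iff_cj.2 (h.nV (h.lb.two_le S.isPGroup' h.lb.BS hs))
  have hSR : (S : Subgroup G) ≤ normalizer (R : Set G) := fun s hs => by
    rw [mem_normalizer_iff_cj, hR, ← o2_cj, cj_centralizer, cj_eq_of_mem_normalizer (hSV hs)]
  have hRS : R ≤ (S : Subgroup G) := by
    have h1 : IsPGroup 2 ((S : Subgroup G) ⊔ R : Subgroup G) := S.isPGroup'.to_sup_of_normal_right' hR2 hSR
    have h2 := S.is_maximal' h1 le_sup_left
    exact le_sup_right.trans h2.le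
  have hRB : R ≤ BK (S : Subgroup G) Q := le_inf hRS (hRV.trans (centralizer_le h.ZV))
  have hRF : R ≤ F := (hRB.trans hB).trans hT.1
  -- `N = C_F(O₂(F))`
  set N := F ⊓ centralizer (o2 F : Set G) with hN
  have hFN : F ≤ normalizer (N : Set G) := fun f hf => by
    rw [mem_normalizer_iff_cj, hN, cj_inf, cj_eq_of_mem_normalizer (le_normalizer hf), cj_centralizer,
      cj_eq_of_mem_normalizer (Cfsg.Agent.MinSimple.VModule.le_normalizer_o2 F hf)]
  have hNV : N ≤ centralizer (V : Set G) := inf_le_right.trans (centralizer_le hV)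
  have hNR : N ≤ normalizer (R : Set G) := hNV.trans (Cfsg.Agent.MinSimple.VModule.le_normalizer_o2 _)
  -- `R ∩ N ≤ O₂(F)`
  have hRN : R ⊓ N ≤ o2 F := by
    have h1 : R ⊓ N ≤ o2 N := le_o2 (hR2.to_le inf_le_left) inf_le_right fun y hy => by
      rw [mem_normalizer_iff_cj, cj_inf, cj_eq_of_mem_normalizer (hNR hy), cj_eq_of_mem_normalizer (le_normalizer hy)]
    have h2 : o2 N ≤ o2 F := le_o2 (isPGroup_o2 N) ((o2_le N).trans inf_le_left) fun f hf => by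
      rw [mem_normalizer_iff_cj, ← o2_cj, cj_eq_of_mem_normalizer (hFN hf)]
    exact h1.trans h2
  refine le_o2 (isPGroup_of_odd fun x hx ho => ?_) inf_le_left hFN
  have hxR : x ∈ centralizer (R : Set G) := by
    rw [mem_centralizer_iff]
    intro r hr
    have hcR : x * r * x⁻¹ * r⁻¹ ∈ R := mul_mem ((mem_normalizer_iff.1 (hNR hx) r).1 hr) (inv_mem hr)
    have hcN : x * r * x⁻¹ * r⁻¹ ∈ N := by
      have h1 : r * x⁻¹ * r⁻¹ ∈ N := (mem_normalizer_iff.1 (hFN (hRF hr)) x⁻¹).1 (inv_mem hx)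
      have h2 := mul_mem hx h1
      have e : x * (r * x⁻¹ * r⁻¹) = x * r * x⁻¹ * r⁻¹ := by group
      rwa [e] at h2
    have h3 := hRN ⟨hcR, hcN⟩
    exact (comm_of_odd hR2 ho hcR (mem_centralizer_iff.1 hx.2 _ h3).symm).symm
  have h4 : x ∈ R := hc ⟨hNV hx, hxR⟩
  exact eq_one_of_odd hR2 h4 ho

/-- a pair lies in `C_G(Ω₁Z(S)^g)`, `g ∈ N_G(B)` -/
theorem pairV_le {M T F : Subgroup G} (hp : PairV (BK (S : Subgroup G) Q) V (ZK (S : Subgroup G) Q) M T F) :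
    ∃ g ∈ normalizer (BK (S : Subgroup G) Q : Set G), F ≤ centralizer (cj g (zc (S : Subgroup G)) : Set G) := by
  obtain ⟨g, hg, -, hz⟩ := h.exists_cj hp.syl.2.1 hp.BT
  refine ⟨g, hg, le_centralizer_iff.1 (le_trans (le_inf ?_ ?_) hp.fix)⟩
  · have h1 := cj_mono g h.zcS
    rwa [h.nZK hg] at h1
  · intro x hx
    exact mem_centralizer_iff.2 fun y hy => (mem_zc.1 (hz hx)).2.2 y (o2_le_syl hp.syl hy)

/-- **The families of offenders of the pairs `PairV`.** -/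
theorem famQ (ho : OffR S V Q) {M T F : Subgroup G}
    (hp : PairV (BK (S : Subgroup G) Q) V (ZK (S : Subgroup G) Q) M T F)
    (hcF : F ⊓ centralizer (o2 F : Set G) ≤ o2 F)
    (hD : centralizer (ZK (S : Subgroup G) Q : Set G) ≤ M) (hTM : T ≤ M)
    (hZM : normalizer (ZK (S : Subgroup G) Q : Set G) ≤ M) :
    ∃ 𝓐 : Set (Subgroup G),
      (∀ Λ : Subgroup G, IsElementaryAbelian 2 Λ → Λ ≤ F → F ≤ normalizer (Λ : Set G) →
        Λ ≤ NoFF.Basic.V V F → Fm F Λ 𝓐) ∧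
      (∃ E ∈ 𝓐, E ≤ T ∧ ¬ E ≤ o2 F) ∧
      ∀ E ∈ 𝓐, E ≤ T → E ≤ BK (S : Subgroup G) Q ∧
        ((∀ a ∈ E, ∀ v ∈ V, a * v = v * a) ∨ OM.Lev.Uni.Best V E) := by
  classical
  have hT2 := hp.syl.2.1
  have hKT : nxt (S : Subgroup G) Q ≤ T := h.lb.KB.trans hp.BT
  have h0T : jj (S : Subgroup G) ≤ T := h.jB.trans hp.BT
  have hmp : IsMinPar T F := pair_minPar h.lb hp hZM
  have hnK := pair_nK h.lb hp hZM
  have hel := h.elab_VF hp.syl hp.BT hp.VO
  have hBe : ∀ {U E : Subgroup G}, Best U E → OM.Lev.Uni.Best U E := fun hb F' h1 h2 => hb.max F' h2 h1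
  by_cases hj : jj (S : Subgroup G) ≤ o2 F
  swap
  · -- stage `-1`
    have hjT : jj T = jj (S : Subgroup G) := MinSimple.EmptyTI.jj_eq S hT2 h0T
    have hX2 : ∀ X ∈ AA F, X ≤ T → X ≤ Q := fun X hX hXT => by
      have h1 := le_jj (OM.Swap.AA_of_le hX hXT hp.syl.1)
      rw [hjT] at h1
      exact h1.trans h.wl.lev.jjle
    refine ⟨AA F, fun Λ hΛ hΛF hn _ => fm_AA hΛ hΛF hn, ?_, fun X hX hXT => ⟨(hX2 X hX hXT).trans h.QB,
      Or.inl fun a ha v hv => h.cV (hX2 X hX hXT ha) hv⟩⟩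
    by_contra hcon
    push Not at hcon
    apply hj
    rw [← hjT, Cfsg.Agent.ZN.ChoiceBase.jj_eq]
    exact sSup_le fun X hX => hcon X (OM.Swap.AA_of_syl hp.syl hX) hX.2.1
  by_cases hQ : Q ≤ o2 F
  · -- the top stage
    have hX := OM.SwapL.zc_elab Q
    have hFN : F ≤ normalizer (zc Q : Set G) :=
      (Cfsg.Agent.MinSimple.VModule.le_normalizer_o2 F).trans
        ((h.wl.norm_T (isPGroup_o2 F) hQ).trans (NO3S.Level.normalizer_le_zc _))
    have hX1 : ∀ X ∈ BF F (zc Q), X ≤ T → X ≤ nxt (S : Subgroup G) Q := fun X hXA hXT =>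
      h.wl.le_nxt_of_best hT2 hKT hXT hXA.2.2
    refine ⟨BF F (zc Q), fun Λ hΛ hΛF hn hle => fm_best hX hFN ?_ hn, ?_,
      fun X hXA hXT => ⟨(hX1 X hXA hXT).trans h.lb.KB, Or.inr (hBe (by rw [← h.zcQ]; exact hXA.2.2))⟩⟩
    · refine hle.trans (NoFF.Basic.V_le fun f hf => ?_)
      have h1 := cj_mono f h.zcQ.ge
      rwa [cj_eq_of_mem_normalizer (hFN hf)] at h1
    · by_contra hcon
      push Not at hcon
      apply hnK
      rw [← h.wl.nxt_T hT2 hKT]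
      have : Fact (Nat.Prime 2) := ⟨Nat.prime_two⟩
      have hNn : F ≤ normalizer ((F ⊓ centralizer (zc Q : Set G) : Subgroup G) : Set G) := by
        intro f hf
        rw [mem_normalizer_iff_cj, cj_inf, cj_centralizer, cj_eq_of_mem_normalizer (hFN hf),
          cj_eq_of_mem_normalizer (le_normalizer hf)]
      refine sup_le ?_ (sSup_le fun X hX' => hcon X ⟨hX'.1.trans hp.syl.1, hT2.to_le hX'.1, hX'.2⟩ hX'.1)
      rcases hmp.sup_eq_or_inf_le (p := 2) hT2 (syl_not_dvd hp.syl)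
        (N := F ⊓ centralizer (zc Q : Set G)) inf_le_left hNn with h1 | h1
      · exfalso
        apply hp.nM
        rw [← h1]
        refine sup_le ((inf_le_right.trans (centralizer_le ?_)).trans hD) hTM
        have h2 : ZK (S : Subgroup G) Q ≤ zc Q := by rw [h.zcQ]; exact h.ZV
        exact_mod_cast h2
      · refine le_trans (fun x hx => ?_) h1
        exact ⟨hx.1, hp.syl.1 hx.1, hx.2⟩
  · -- below the top
    obtain ⟨g, hg, hFz⟩ := h.pairV_le hp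
    have hmv : ¬ oddGen F ≤ centralizer (ZK (S : Subgroup G) Q : Set G) := by
      intro hle
      apply hp.nM
      rw [← OM.Dich.oddGen_sup_syl hp.syl]
      exact sup_le (hle.trans hD) hTM
    obtain ⟨A, hA, hbA, hn⟩ := h.off ho hp.syl hp.BT hmp hcF hFz hj hQ hmv
    have hc : ∀ x ∈ NoFF.Basic.V V F, ∀ y ∈ NoFF.Basic.V V F, x * y = y * x := fun x hx y hy =>
      SQ1.Bau.elem_comm hel x hx y hy
    refine ⟨BF F (NoFF.Basic.V V F), fun Λ _ _ hn hle => fm_best hel OmThm.XD.X_le_normalizer_W hle hn,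
      ⟨A, ⟨hA.trans hp.syl.1, hT2.to_le hA, hbA⟩, hA, hn⟩, fun X hX hXT => ⟨?_, ?_⟩⟩
    · have h1 : Best (zc Q) X := best_of_le hc hX.2.2 (by rw [h.zcQ]; exact V_le_VF V F)
      exact (h.wl.le_nxt_of_best hT2 hKT hXT h1).trans h.lb.KB
    · exact Or.inr (hBe (best_of_le hc hX.2.2 (V_le_VF V F)))

section fr

variable {ι : Type} [Finite ι] {L W Z C A : ι → Subgroup G} {q : ℕ}

omit h in
theorem V_ne [Nonempty ι] {B Q V X ZJ : Subgroup G} (fr : FrL B Q V X ZJ L W Z C A q) : V ≠ ⊥ := by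
  obtain ⟨i⟩ := ‹Nonempty ι›
  intro e
  have h1 := (fr.blk i).card
  have h2 : W i = ⊥ := by rw [eq_bot_iff, ← e]; exact fr.WV i
  have h3 : Z i = ⊥ := by rw [eq_bot_iff, ← h2]; exact (fr.blk i).ZV
  rw [h2, h3, Subgroup.card_bot] at h1
  have := (fr.blk i).one
  omega

/-- **The frame `AbQ` (so the ground frame `Gr`) at the top level.** -/
theorem abQ [Nonempty ι] (fr : FrL (BK (S : Subgroup G) Q) Q V V (ZK (S : Subgroup G) Q) L W Z C A q)
    (ho : OffR S V Q)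
    (perm : ∀ s ∈ (S : Subgroup G), ∀ i j, cj s (Z i) = Z j → cj s (W i) = W j ∧ cj s (C i) = C j)
    (co : ∀ i, ∃ (F : Type) (_ : Field F) (_ : Finite F) (_ : CharP F 2), Nat.card F = q ∧
      ∃ e : G → F × F, Cor F (S : Subgroup G) (BK (S : Subgroup G) Q) L W Z i e) :
    AbQ S (nxt (S : Subgroup G) Q) (BK (S : Subgroup G) Q) V (ZK (S : Subgroup G) Q) V Q L W Z C A q where
  lb := h.lb
  wc := h.wcB
  nX := fun _ hg => mem_normalizer_iff_cj.2 (h.nV hg)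
  fr := fr
  char2 := h.char2
  low := h.low
  noff := h.noff
  perm := perm
  co := co
  fixPt := h.fixPt ho
  fam := fun _ _ _ hp hD hTM hZM => h.famQ ho hp (h.c2_of (V_ne fr) hp.syl hp.BT hp.VO) hD hTM hZM

end fr

end LtV

end Cfsg.Agent.Omega.NOThreeL.QWR.Sw

end

end
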